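import Cfsg.Agent.HZ.Basic
import Cfsg.Agent.Blocks.Induced

/-!
# HZ, the reduction: quotients, induced characters, the Clifford step (helper17)
-/

set_option autoImplicit false

namespace Cfsg.Agent.HZ

open Cfsg Subgroup Cfsg.Agent.ODD.Red Cfsg.Agent.Characters Cfsg.Agent.Characters.Core Cfsg.Agent.Blocks
  Cfsg.Agent.Blocks.LocalRing Cfsg.Agent.OddOrderCharacters.PF9 Cfsg.Agent.OddOrderCharacters.NormalInduced

universe u v

variable {M : Ideal AlgInt} {G : Type u} [Group G]

theorem index_cent_map_dvd [Finite G] {H : Type v} [Group H] (φ : G →* H) (hφ : Function.Surjective φ) (y : G) :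
    (centralizer ({φ y} : Set H)).index ∣ (centralizer ({y} : Set G)).index := by
  rw [← index_comap_of_surjective _ hφ]
  refine index_dvd_of_le fun c hc => ?_
  have h1 : Commute c y := mem_centralizer_singleton_iff.1 hc
  exact mem_centralizer_singleton_iff.2 (h1.map φ)

/-- good elements pass to quotients -/
theorem Good.quot [Finite G] (hM : IsPModular 2 M) {H : Type v} [Group H] [Finite H] (φ : G →* H)
    (hφ : Function.Surjective φ) {χ : G → ℂ} (hχ : IsIrrCharacter G χ) {η : H → ℂ} (hη : IsIrrCharacter H η)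
    (h : ∀ g, η (φ g) = χ g) {y : G} (hy : Good M χ y) : Good M η (φ y) := by
  refine good_of_le hM hη (by rw [h]; exact hy.1) ?_
  rw [charDegree_congr (χ := η) (ψ := χ) (by rw [← h, map_one]), ← hy.nu hM hχ]
  exact nu_le_of_dvd index_ne_zero_of_finite (index_cent_map_dvd φ hφ y)

/-- height zero passes to the inducing character -/
theorem H0.of_ind [Fintype G] (hM : IsPModular 2 M) (T : Subgroup G) {ψ : T → ℂ} (hψ : IsIrrCharacter T ψ)
    (hχ : IsIrrCharacter G (indFun T ψ)) (h : H0 M (indFun T ψ)) : H0 M ψ := by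
  have := isPrime hM
  obtain ⟨y, hy⟩ := h
  have h1 := hy.2
  rw [Induced.centralChar_indFun] at h1
  obtain ⟨t, ht, h2⟩ := Basic.exists_isConj_of_inducedCentralChar T hψ h1
  refine ⟨t, good_of_om hM hψ h2 ?_⟩
  have h3 := (hy.conj hχ ht).nu hM hχ
  rw [charDegree_of (n := T.index * charDegree ψ) (by
    rw [CharactersDeep.NormalInd.indFun_one, apply_one (isIrr_isCharacter hψ), Nat.cast_mul]),
    Nat.factorization_mul index_ne_zero_of_finite (Basic.charDegree_pos hψ).ne', Finsupp.add_apply] at h3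
  have h4 : (centralizer ({(t : G)} : Set G)).index ∣ (centralizer ({t} : Set T)).index * T.index := by
    rw [← index_map_subtype]
    refine index_dvd_of_le ?_
    rintro _ ⟨c, hc, rfl⟩
    exact mem_centralizer_singleton_iff.2 (congrArg Subtype.val (mem_centralizer_singleton_iff.1 hc))
  have h5 := nu_le_of_dvd (mul_ne_zero index_ne_zero_of_finite index_ne_zero_of_finite) h4
  rw [Nat.factorization_mul index_ne_zero_of_finite index_ne_zero_of_finite, Finsupp.add_apply] at h5
  omega

theorem isIrr_of_ind [Fintype G] (S : Subgroup G) {η : S → ℂ} (hη : IsCharacter S η)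
    (hχ : IsIrrCharacter G (indFun S η)) : IsIrrCharacter S η := by
  have := Fintype.ofFinite S
  have h1 := classInner_irr_self hχ
  rw [CharactersDeep.NormalInd.classInner_indFun S η _ (isIrr_isClassFunction hχ)] at h1
  obtain ⟨ψ, hψ, h2, h3⟩ := CliffGen.exists_constituent (le_refl S) (θ := fun s : S => indFun S η s) hη
    (by rw [show CliffGen.resTo (le_refl S) η = η from rfl, h1]; exact one_ne_zero)
  have h4 : classInner (indFun S ψ) (indFun S η) ≠ 0 := by
    rw [CharactersDeep.NormalInd.classInner_indFun S ψ _ (isIrr_isClassFunction hχ)]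
    exact h3
  have h5 := CliffGen.degree_le_of_constituent (CharDeep.CliffordCorr.isCharacter_indFun S (isIrr_isCharacter hψ)) hχ h4
    (m := S.index * charDegree ψ) (n := S.index * charDegree η)
    (by rw [CharactersDeep.NormalInd.indFun_one, apply_one (isIrr_isCharacter hψ), Nat.cast_mul])
    (by rw [CharactersDeep.NormalInd.indFun_one, apply_one hη, Nat.cast_mul])
  have h6 := Nat.le_of_mul_le_mul_left h5 (Nat.pos_of_ne_zero index_ne_zero_of_finite)
  have h7 := CliffGen.degree_le_of_constituent hη hψ h2 (apply_one hη) (apply_one (isIrr_isCharacter hψ))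
  have h8 := OddOrderCharacters.Clifford.isCharacter_sub_irr hη hψ h2
  have h9 : η = ψ := by
    funext y
    have h10 := CliffGen.norm_le_re h8 y
    rw [Pi.sub_apply η ψ 1, apply_one hη, apply_one (isIrr_isCharacter hψ), le_antisymm h6 h7, sub_self, Complex.zero_re] at h10
    exact sub_eq_zero.1 (norm_le_zero_iff.1 h10)
  rwa [h9]

/-- the step for an induced character -/
theorem rat2_of_ind [Fintype G] (hM : IsPModular 2 M) (S : Subgroup G) (hS : HH M S) {η : S → ℂ} (hη : IsCharacter S η)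
    (hχ : IsIrrCharacter G (indFun S η)) (h0 : H0 M (indFun S η)) {σ : ℂ ≃+* ℂ} (hσ : Sg σ) (hfix : Fix σ η) :
    Rat2 (indFun S η) := by
  have h1 := isIrr_of_ind S hη hχ
  have h2 := hS η h1 (h0.of_ind hM S h1 hχ) σ hσ hfix
  intro τ hτ g
  rw [map_indFun, show (fun t => τ (η t)) = η from funext (h2 τ hτ)]

theorem two_fix_odd [Finite G] {χ : G → ℂ} (hχ : IsCharacter G χ) {τ : ℂ ≃+* ℂ} (hτ : Two τ) {y : G}
    (ho : Odd (orderOf y)) : τ (χ y) = χ y := by
  have h := GaloisBasic.map_apply (τ : ℂ →+* ℂ) (m := 1) (n := orderOf y)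
    (fun z hz => by rw [pow_one]; exact hτ _ z ho hz) hχ ho.pos.ne' (pow_orderOf_eq_one y)
  rwa [pow_one] at h

/-- The Clifford correspondent and the semi-inertia group. -/
theorem cliff_semi [Fintype G] (N : Subgroup G) [hN : N.Normal] [Fintype N] {χ : G → ℂ} {θ : N → ℂ}
    (hθ : IsIrrCharacter N θ) {T : Subgroup G} (hT : ∀ x, x ∈ T ↔ ∀ n : N, θ (MulAut.conjNormal x n) = θ n)
    {ψ : T → ℂ} (hψ : IsIrrCharacter T ψ) (hNT : N ≤ T) (h0 : classInner (CliffGen.resTo hNT ψ) θ ≠ 0)
    (hind : χ = indFun T ψ) {τ : ℂ ≃+* ℂ} (hτ : Fix τ χ) {g : G} (hg : ∀ n, τ (θ n) = θ (MulAut.conjNormal g n)) :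
    g ∈ normalizer (T : Set G) ∧ ∀ x, τ (extendByZero T ψ x) = extendByZero T ψ (g * x * g⁻¹) := by
  have := Fintype.ofFinite T
  have h1 : g ∈ normalizer (T : Set G) := by
    refine mem_normalizer_fintype fun x hx => (hT _).2 fun n => ?_
    rw [map_mul, map_mul, MulAut.mul_apply, MulAut.mul_apply, ← hg, (hT x).1 hx, hg, ← MulAut.mul_apply, ← map_mul,
      mul_inv_cancel, map_one, MulAut.one_apply]
  let α : MulAut T := T.normalizerMonoidHom ⟨g, h1⟩
  have hα : ∀ t : T, (α t : G) = g * t * g⁻¹ := fun t => rfl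
  have h2 : ∀ x, extendByZero T (fun t => τ.symm (ψ (α t))) x = τ.symm (extendByZero T ψ (g * x * g⁻¹)) := by
    intro x
    by_cases hx : x ∈ T
    · rw [extendByZero_of_mem _ _ hx, extendByZero_of_mem _ _ ((mem_normalizer_iff.1 h1 x).1 hx)]
      rfl
    · rw [extendByZero_of_notMem _ _ hx, extendByZero_of_notMem _ _ fun h => hx ((mem_normalizer_iff.1 h1 x).2 h), map_zero]
  have h3 : (fun t => τ.symm (ψ (α t))) = ψ := by
    refine CliffGen.ind_inj hθ (fun x => (hT x).trans funext_iff.symm) hNT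
      (GaloisIrr.isIrr_map τ.symm (isIrr_comp' α.toMonoidHom α.surjective hψ)) hψ ?_ h0 ?_
    · have h4 := GaloisIrr.classInner_map τ.symm (χ := CliffGen.resTo hNT ψ ∘ (MulAut.conjNormal g : MulAut N))
        (isIrr_isCharacter (Characters.Clifford.isIrr_conjNormal hθ g))
      rw [Characters.Clifford.classInner_comp_mulEquiv] at h4
      have h5 : (fun n => τ.symm ((θ ∘ (MulAut.conjNormal g : MulAut N)) n)) = θ := by
        funext n
        rw [Function.comp_apply, ← hg, τ.symm_apply_apply]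
      rw [h5] at h4
      intro h6
      exact h0 (τ.symm.injective (by rw [← h4, map_zero]; exact h6))
    · funext x
      rw [← hind, ← hτ.symm x, hind, indFun_apply, indFun_apply, map_mul, map_inv₀, map_natCast, map_sum]
      congr 1
      refine Fintype.sum_equiv (Equiv.mulRight g⁻¹) _ _ fun z => ?_
      rw [h2]
      congr 2
      simp only [Equiv.coe_mulRight]
      group
  refine ⟨h1, fun x => ?_⟩
  rw [← h3, h2, h3, τ.apply_symm_apply]

/-- **The Clifford step.** -/
theorem homog [Finite G] (hM : IsPModular 2 M) (hsub : ∀ S : Subgroup G, S ≠ ⊤ → HH M S) {χ : G → ℂ}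
    (hχ : IsIrrCharacter G χ) (h0 : H0 M χ) {σ : ℂ ≃+* ℂ} (hσ : Sg σ) (hfix : Fix σ χ) (hn : ¬ Rat2 χ)
    (N : Subgroup G) [hN : N.Normal] [Fintype N] {θ : N → ℂ} (hθ : IsIrrCharacter N θ)
    (hc : classInner (fun n : N => χ n) θ ≠ 0) (g : G) (n : N) : θ (MulAut.conjNormal g n) = θ n := by
  have := Fintype.ofFinite G
  obtain ⟨T, hT⟩ : ∃ T : Subgroup G, ∀ x, x ∈ T ↔ ∀ n : N, θ (MulAut.conjNormal x n) = θ n :=
    ⟨CliffGen.inertia N θ, fun x => CliffGen.mem_inertia'⟩
  have := Fintype.ofFinite T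
  have hNT : N ≤ T := fun x hx => (hT x).2 fun n => isIrr_isClassFunction hθ n ⟨x, hx⟩
  obtain ⟨ψ, hψ, h1, hind⟩ := CliffGen.exists_ind hθ (fun x => (hT x).trans funext_iff.symm) hNT hχ hc
  let S : Subgroup G :=
    { carrier := {g | ∃ τ, Two τ ∧ Fix τ χ ∧ ∀ n, τ (θ n) = θ (MulAut.conjNormal g n)}
      one_mem' := ⟨_, Two.refl, fun _ => rfl, fun n => by simp⟩
      mul_mem' := by
        rintro a b ⟨τ, h1, h2, h3⟩ ⟨ρ, h4, h5, h6⟩
        refine ⟨τ * ρ, h1.mul h4, fun g => by rw [RingAut.mul_apply, h5, h2], fun n => ?_⟩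
        rw [RingAut.mul_apply, h6, h3, map_mul, MulAut.mul_apply]
      inv_mem' := by
        rintro a ⟨τ, h1, h2, h3⟩
        refine ⟨τ.symm, h1.symm, h2.symm, fun n => ?_⟩
        rw [RingEquiv.symm_apply_eq, h3, ← MulAut.mul_apply, ← map_mul, mul_inv_cancel, map_one, MulAut.one_apply] }
  have hTS : T ≤ S := fun t ht => ⟨_, Two.refl, fun _ => rfl, fun n => ((hT t).1 ht n).symm⟩
  have := Fintype.ofFinite S
  by_cases hS : S = ⊤
  · have hall : ∀ g : G, ∃ τ, Two τ ∧ Fix τ χ ∧ ∀ n, τ (θ n) = θ (MulAut.conjNormal g n) := fun g =>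
      (hS ▸ mem_top g : g ∈ S)
    obtain ⟨y, ho, hy⟩ := h0.odd hM hχ
    have h2 : ∀ x : G, extendByZero T ψ (x⁻¹ * y * x) = extendByZero T ψ y := by
      intro x
      obtain ⟨τ, h3, h4, h5⟩ := hall x⁻¹
      have h6 := (cliff_semi N hθ hT hψ hNT h1 hind h4 h5).2 y
      rw [inv_inv] at h6
      rw [← h6]
      by_cases hy : y ∈ T
      · rw [extendByZero_of_mem _ _ hy]
        exact two_fix_odd (isIrr_isCharacter hψ) h3 (by rwa [← orderOf_coe])
      · rw [extendByZero_of_notMem _ _ hy, map_zero]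
    have h3 : χ y = T.index * extendByZero T ψ y := by
      have h4 : (Nat.card T : ℂ) ≠ 0 := Nat.cast_ne_zero.2 Nat.card_pos.ne'
      rw [hind, indFun_apply, Finset.sum_congr rfl fun x _ => h2 x, Finset.sum_const, nsmul_eq_mul, Finset.card_univ,
        ← Nat.card_eq_fintype_card, ← T.card_mul_index]
      push_cast
      field_simp
    have h4 : Odd T.index := by
      by_contra h5
      apply hy.1
      rw [h3]
      refine memLocalIdeal_mul_right hM ((memLocalIdeal_natCast_iff hM _).2 (Nat.not_odd_iff_even.1 h5).two_dvd) ?_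
      by_cases hy : y ∈ T
      · rw [extendByZero_of_mem _ _ hy]
        exact loc_val hM hψ _
      · rw [extendByZero_of_notMem _ _ hy]
        exact memLocalRing_zero hM
    have hTn : T.Normal := normalizer_eq_top_iff.1 (eq_top_iff.2 fun x _ => by
      obtain ⟨τ, -, h6, h7⟩ := hall x
      exact (cliff_semi N hθ hT hψ hNT h1 hind h6 h7).1)
    obtain ⟨τ, h5, -, h6⟩ := hall g
    obtain ⟨b, hb⟩ := h5.exists_pow (n := Nat.card N) Nat.card_pos.ne'
    have h7 : ∀ (j : ℕ) (n : N), (τ ^ j) (θ n) = θ (MulAut.conjNormal (g ^ j) n) := by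
      intro j
      induction j with
      | zero => intro n; simp
      | succ j ih =>
        intro n
        rw [pow_succ', RingAut.mul_apply, ih, h6, pow_succ', map_mul, MulAut.mul_apply]
    have h8 : g ^ 2 ^ b ∈ T := (hT _).2 fun n => by
      rw [← h7, fix_of_roots Nat.card_pos.ne' (fun _ => pow_card_eq_one') hb (isIrr_isCharacter hθ) n]
    have h9 : (g : G ⧸ T) ^ 2 ^ b = 1 := by rw [← QuotientGroup.mk_pow, QuotientGroup.eq_one_iff]; exact h8
    have h10 : (g : G ⧸ T) ^ T.index = 1 := by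
      rw [← QuotientGroup.mk_pow, QuotientGroup.eq_one_iff]
      exact T.pow_index_mem g
    have h11 := pow_gcd_eq_one.2 ⟨h9, h10⟩
    rw [(Nat.Coprime.pow_left b (Nat.coprime_two_left.2 h4)).gcd_eq_one, pow_one, QuotientGroup.eq_one_iff] at h11
    exact (hT g).1 h11 n
  · exfalso
    apply hn
    have h2 : indFun S (indFun (T.subgroupOf S) (CliffGen.down T S ψ)) = χ := by rw [CliffGen.indFun_down hTS, hind]
    have h3 : IsCharacter (T.subgroupOf S) (CliffGen.down T S ψ) :=
      isCharacter_comp' (subgroupOfEquivOfLe hTS).toMonoidHom (isIrr_isCharacter hψ)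
    rw [← h2] at hχ h0 ⊢
    refine rat2_of_ind hM S (hsub S hS) (CharDeep.CliffordCorr.isCharacter_indFun _ h3) hχ h0 hσ fun s => ?_
    rw [h2] at hχ
    have h4 : classInner (fun n : N => χ n) (fun n => σ (θ n)) ≠ 0 := by
      have h5 := GaloisIrr.classInner_map σ (χ := fun n : N => χ n) (isIrr_isCharacter hθ)
      rw [show (fun n : N => σ (χ n)) = fun n : N => χ n from funext fun n => hfix n] at h5
      rw [h5]
      exact fun h => hc (σ.injective (h.trans (map_zero σ).symm))
    obtain ⟨a, ha⟩ := Characters.Clifford.exists_conj_of_constituents N hχ hθ (GaloisIrr.isIrr_map σ hθ) hc h4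
    have ha' : ∀ n, σ (θ n) = θ (MulAut.conjNormal a n) := fun n => congrFun ha n
    have h5 := (cliff_semi N hθ hT hψ hNT h1 hind hfix ha').2
    have h6 : ∀ x : S, extendByZero (T.subgroupOf S) (CliffGen.down T S ψ) x = extendByZero T ψ x := by
      intro x
      by_cases hx : (x : G) ∈ T
      · rw [extendByZero_of_mem _ _ hx, extendByZero_of_mem _ _ (mem_subgroupOf.2 hx)]
        rfl
      · rw [extendByZero_of_notMem _ _ hx, extendByZero_of_notMem _ _ fun h => hx (mem_subgroupOf.1 h)]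
    rw [indFun_apply, map_mul, map_inv₀, map_natCast, map_sum]
    congr 1
    refine Fintype.sum_equiv (Equiv.mulRight (⟨a, σ, hσ.1, hfix, ha'⟩ : S)⁻¹) _ _ fun z => ?_
    rw [h6, h6, h5]
    congr 1
    simp only [Equiv.coe_mulRight, coe_mul, coe_inv]
    group

end Cfsg.Agent.HZ
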