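import Cfsg.Agent.S0000
import Cfsg.Agent.HZ.Red.Main

/-!
# HZ: the boxes and the classification give the statement (helper17)
-/

set_option autoImplicit false

namespace Cfsg.Agent.HZ

open Cfsg

universe u

theorem allK_of (hN : BoxN) (hL : BoxL) {M : Ideal AlgInt} (hM : IsPModular 2 M) : AllK M := fun X _ _ hX ih =>
  haveI := hX.2
  row_known hN hL M hM X hX (S0000.result (G := X ⧸ Subgroup.center X)) ih

theorem hh_all (hN : BoxN) (hL : BoxL) {M : Ideal AlgInt} (hM : IsPModular 2 M) (G : Type u) [Group G] [Finite G] :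
    HH M G := hh_of hM (allK_of hN hL hM) G

end Cfsg.Agent.HZ
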