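import Cfsg.Agent.HZ.Red.Prime

/-!
# HZ, the reduction: the character triple step for a perfect group (helper17)
-/

set_option autoImplicit false

namespace Cfsg.Agent.HZ

open Cfsg Subgroup Cfsg.Agent.ODD.Red Cfsg.Agent.Characters Cfsg.Agent.Characters.Core Cfsg.Agent.Blocks
  Cfsg.Agent.Blocks.LocalRing Module Cfsg.Agent.CharDeep.ProjExt Cfsg.Agent.CharDeep.TripleCover

universe u

variable {M : Ideal AlgInt} {G : Type u} [Group G] [Finite G] {χ : G → ℂ}

theorem exists_hat (N : Subgroup G) [hN : N.Normal] {θ : N → ℂ} (hθ : IsIrrCharacter N θ)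
    (hinv : ∀ (g : G) (n : N), θ (MulAut.conjNormal g n) = θ n) :
    ∃ (Δ : Type u) (_ : Group Δ) (_ : Finite Δ) (π : Δ →* G) (ι : N →* Δ) (Θ : Δ → ℂ),
      Function.Surjective π ∧ π.ker ≤ center Δ ∧ (∀ z ∈ π.ker, Θ z = Θ 1 → z = 1) ∧ (∀ n, π (ι n) = n) ∧
      ι.range.Normal ∧ IsIrrCharacter Δ Θ ∧ ∀ n, Θ (ι n) = θ n := by
  obtain ⟨d, ρ, hρ, rfl⟩ := hθ
  set V := Fin d → ℂ
  have hV : Nontrivial V := ((CharDeep.LinearChar.isIrreducible_iff ρ).1 hρ).1
  let m := Nat.card N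
  let D : (G × (V →ₗ[ℂ] V)ˣ) →* ℂˣ :=
    (Units.map (LinearMap.det : (V →ₗ[ℂ] V) →* ℂ)).comp (MonoidHom.snd G (V →ₗ[ℂ] V)ˣ)
  let P : (G × (V →ₗ[ℂ] V)ˣ) →* ℂˣ := (powMonoidHom m).comp D
  let Δ : Subgroup (G × (V →ₗ[ℂ] V)ˣ) := intGroup ρ ⊓ P.ker
  have hΔ : Δ ≤ intGroup ρ := inf_le_left
  have hdet : ∀ x : Δ, (LinearMap.det (x.1.2 : V →ₗ[ℂ] V)) ^ m = 1 := fun x => by
    have h1 : P x.1 = 1 := x.2.2
    exact congrArg Units.val h1
  have hker : ∀ x : Δ, x ∈ (proj Δ).ker → ∃ c : ℂ, (x.1.2 : V →ₗ[ℂ] V) = c • (1 : V →ₗ[ℂ] V) :=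
    fun x hx => exists_scalar_of_fst_eq_one ρ hρ x.1 (hΔ x.2) hx
  have hrk : finrank ℂ V ≠ 0 := finrank_pos.ne'
  have hne : finrank ℂ V * m ≠ 0 := mul_ne_zero hrk Nat.card_pos.ne'
  choose c hc using hker
  have hcpow : ∀ (x : Δ) (hx : x ∈ (proj Δ).ker), c x hx ^ (finrank ℂ V * m) = 1 := by
    intro x hx
    have h2 := hdet x
    rw [hc x hx, LinearMap.det_smul, map_one, mul_one, ← pow_mul] at h2
    exact h2
  have hfin : Finite (proj Δ).ker := by
    have : NeZero (finrank ℂ V * m) := ⟨hne⟩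
    refine Finite.of_injective
      (fun x : (proj Δ).ker => (rootsOfUnity.mkOfPowEq (n := finrank ℂ V * m)
        (c x.1 x.2) (hcpow x.1 x.2))) ?_
    intro x y hxy
    have h3 : c x.1 x.2 = c y.1 y.2 := by
      have := congrArg (fun z : rootsOfUnity (finrank ℂ V * m) ℂ => ((z : ℂˣ) : ℂ)) hxy
      simpa using this
    apply Subtype.ext
    apply Subtype.ext
    refine Prod.ext ?_ (Units.ext ?_)
    · exact (x.2 : proj Δ x.1 = 1).trans (y.2 : proj Δ y.1 = 1).symm
    · rw [hc x.1 x.2, hc y.1 y.2, h3]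
  have hfinΔ : Finite Δ :=
    Finite.of_equiv _ (Subgroup.groupEquivQuotientProdSubgroup (s := (proj Δ).ker)).symm
  have hsec : ∀ n, sec ρ n ∈ Δ := by
    intro n
    refine ⟨sec_mem_intGroup ρ n, ?_⟩
    show (D.comp (sec ρ) n) ^ m = 1
    rw [← map_pow, pow_card_eq_one', map_one]
  let ι : N →* Δ := (sec ρ).codRestrict Δ hsec
  refine ⟨Δ, inferInstance, hfinΔ, proj Δ, ι, (coverRep Δ).character, ?_, ?_, ?_, fun n => rfl, ?_, ?_, fun n => rfl⟩
  · intro g
    obtain ⟨T, hT, hTd⟩ := exists_mem_intGroup ρ hρ hinv g 1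
    refine ⟨⟨(g, T), hT, ?_⟩, rfl⟩
    show (D (g, T)) ^ m = 1
    have : D (g, T) = 1 := Units.ext hTd
    rw [this, one_pow]
  · intro x hx
    rw [Subgroup.mem_center_iff]
    intro y
    apply Subtype.ext
    refine Prod.ext ?_ (Units.ext ?_)
    · show y.1.1 * x.1.1 = x.1.1 * y.1.1
      have : x.1.1 = 1 := hx
      rw [this, mul_one, one_mul]
    · show ((y.1.2 * x.1.2 : (V →ₗ[ℂ] V)ˣ) : V →ₗ[ℂ] V) = ((x.1.2 * y.1.2 : (V →ₗ[ℂ] V)ˣ) : _)
      rw [Units.val_mul, Units.val_mul, hc x hx, smul_mul_assoc, mul_smul_comm, one_mul, mul_one]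
  · intro x hx h
    have h1 : coverRep Δ x = LinearMap.id := by
      rw [← Values.character_eq_finrank_iff, h]
      simp
    exact Subtype.ext (Prod.ext hx (Units.ext h1))
  · constructor
    rintro _ ⟨n, rfl⟩ x
    exact ⟨MulAut.conjNormal x.1.1 n, Subtype.ext (conj_sec ρ x.1 (hΔ x.2) n).symm⟩
  · refine isIrrCharacter_of_rep _ ?_
    rw [CharDeep.LinearChar.isIrreducible_iff] at hρ ⊢
    exact ⟨hρ.1, fun W hW => hρ.2 W fun n v hv => hW (ι n) v hv⟩

theorem isIrr_of_le {R L : Subgroup G} (h : R ≤ L) (hχ : IsCharacter G χ) (hR : IsIrrCharacter R fun r : R => χ r) :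
    IsIrrCharacter L fun l : L => χ l := by
  obtain ⟨n, ρ, rfl⟩ := hχ
  obtain ⟨k, ρ', hρ', h1⟩ := hR
  obtain ⟨e⟩ := EquivOfChar.nonempty_equiv_of_character_eq ρ' (ρ.comp R.subtype) h1
  have h2 := isIrreducible_of_equiv e hρ'
  refine ⟨n, ρ.comp L.subtype, ?_, rfl⟩
  rw [CharDeep.LinearChar.isIrreducible_iff] at h2 ⊢
  exact ⟨h2.1, fun W hW => h2.2 W fun r v hv => hW ⟨r, h r.2⟩ v hv⟩

omit [Finite G] in
theorem sup_ne_top (hG : commutator G = ⊤) {N : Subgroup G} [N.Normal] (hN : N ≠ ⊤) (y : G) : zpowers y ⊔ N ≠ ⊤ := by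
  intro h
  apply hN
  have h1 : ∀ a : G, (a : G ⧸ N) ∈ zpowers (y : G ⧸ N) := by
    intro a
    obtain ⟨_, ⟨k, rfl⟩, n, hn, rfl⟩ := mem_sup_of_normal_right.1 (h ▸ mem_top a : a ∈ zpowers y ⊔ N)
    refine ⟨k, ?_⟩
    rw [QuotientGroup.mk_mul, (QuotientGroup.eq_one_iff n).2 hn, mul_one]
    rfl
  rw [eq_top_iff, ← hG, commutator_def, commutator_le]
  intro a _ b _
  rw [← QuotientGroup.ker_mk' N, MonoidHom.mem_ker, map_commutatorElement, commutatorElement_eq_one_iff_commute]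
  obtain ⟨i, hi⟩ := h1 a
  obtain ⟨j, hj⟩ := h1 b
  rw [QuotientGroup.mk'_apply, QuotientGroup.mk'_apply, ← hi, ← hj]
  exact Commute.zpow_zpow_self _ _ _

omit [Finite G] in
theorem center_index_dvd {W : Subgroup G} (hW : W ≤ center G) (L : Subgroup G) : (center L).index ∣ W.relIndex L :=
  index_dvd_of_le fun _ hz => mem_center_iff.2 fun l => Subtype.ext (mem_center_iff.1 (hW (mem_subgroupOf.1 hz)) l)

/-- **The character triple step.** -/
theorem rat2_hat (hM : IsPModular 2 M) (hG : commutator G = ⊤) (N : Subgroup G) [hN : N.Normal] (hZ : center G < N)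
    (hNt : N ≠ ⊤) (ih : ∀ (L : Type u) [Group L] [Finite L], (center L).index < (center G).index → HH M L)
    (hχ : IsIrrCharacter G χ) (h0 : H0 M χ) {σ : ℂ ≃+* ℂ} (hσ : Sg σ) (hfix : Fix σ χ) {θ : N → ℂ}
    (hθ : IsIrrCharacter N θ) (hinv : ∀ (g : G) (n : N), θ (MulAut.conjNormal g n) = θ n) {e : ℕ}
    (he : ∀ n : N, χ n = e * θ n) : Rat2 χ := by
  have hχc := isIrr_isCharacter hχ
  have he0 : (e : ℂ) ≠ 0 := fun h => isIrr_apply_one_ne_zero hχ (by rw [show χ 1 = _ from he 1, h, zero_mul])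
  have hσθ : Fix σ θ := fun n => by
    have h1 := hfix n
    rw [he, map_mul, map_natCast] at h1
    exact mul_left_cancel₀ he0 h1
  obtain ⟨Δ, _, _, p, ι, Θ, hp, hpc, hpf, hpι, hιn, hΘ, hΘι⟩ := exists_hat N hθ hinv
  have := Fintype.ofFinite Δ
  set R := ι.range with hR
  have := Fintype.ofFinite R
  have hιinj : Function.Injective ι := fun a b h => Subtype.ext (by rw [← hpι, ← hpι, h])
  let eM : N ≃* R := MonoidHom.ofInjective hιinj
  have heM : ∀ y : R, ι (eM.symm y) = y := fun y => MonoidHom.apply_ofInjective_symm hιinj y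
  have hΘR : IsIrrCharacter R (fun y : R => Θ y) := by
    rw [show (fun y : R => Θ y) = fun y => θ (eM.symm.toMonoidHom y) from funext fun y => by rw [← heM y, hΘι]; rfl]
    exact isIrr_comp' _ eM.symm.surjective hθ
  have hχp : IsIrrCharacter Δ (fun x => χ (p x)) := isIrr_comp' p hp hχ
  obtain ⟨η, hη, hηR, hηeq⟩ := CharactersDeep.CosetAverage.exists_irr_mul R Θ hΘ hΘR _ hχp (by
    have h2 : (fun y : R => χ (p y)) = (e : ℂ) • fun y : R => Θ y := by
      funext y
      rw [Pi.smul_apply, smul_eq_mul, ← heM y, hpι, hΘι, he]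
    rw [h2, classInner_smul_left, classInner_irr_self hΘR, mul_one]
    exact he0)
  have hmul : ∀ x, χ (p x) = Θ x * η x := fun x => congrFun hηeq x
  obtain ⟨β, hβ, hβη⟩ := exists_quot (QuotientGroup.mk' R) (QuotientGroup.mk'_surjective R) hη (by
    intro z hz
    rw [QuotientGroup.ker_mk'] at hz
    have h2 := hηR ⟨z, hz⟩ 1
    rwa [mul_one] at h2)
  -- the commutator subgroup
  have hlift : ∀ g : G, ∃ x ∈ commutator Δ, p x = g := by
    intro g
    have h2 := map_commutator_eq Δ p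
    rw [MonoidHom.range_eq_top_of_surjective _ hp, ← commutator_def, hG] at h2
    exact (h2 ▸ mem_top g : g ∈ (commutator Δ).map p)
  have hcm : commutator (Δ ⧸ R) = (commutator Δ).map (QuotientGroup.mk' R) := by
    rw [map_commutator_eq, MonoidHom.range_eq_top_of_surjective _ (QuotientGroup.mk'_surjective R)]
    rfl
  have hcen : ∀ z ∈ p.ker, QuotientGroup.mk' R z ∈ center (Δ ⧸ R) := by
    intro z hz
    rw [mem_center_iff]
    intro w
    obtain ⟨x, rfl⟩ := QuotientGroup.mk'_surjective R w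
    rw [← map_mul, ← map_mul, mem_center_iff.1 (hpc hz) x]
  have hβ' : IsIrrCharacter (commutator (Δ ⧸ R)) fun x : commutator (Δ ⧸ R) => β x := by
    refine isIrr_comp_central (commutator (Δ ⧸ R)).subtype (fun w => ?_) hβ
    obtain ⟨a, rfl⟩ := QuotientGroup.mk'_surjective R w
    obtain ⟨x, hx, h2⟩ := hlift (p a)
    refine ⟨_, hcen (a * x⁻¹) (by rw [MonoidHom.mem_ker, map_mul, map_inv, h2, mul_inv_cancel]),
      ⟨_, hcm ▸ mem_map_of_mem _ hx⟩, ?_⟩
    rw [coe_subtype, ← map_mul, inv_mul_cancel_right]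
  have hlin : ∀ s, Fix s θ → ∃ l : Δ →* ℂˣ, (∀ n ∈ R, l n = 1) ∧ (∀ x ∈ commutator Δ, l x = 1) ∧
      ∀ g, s (Θ g) = l g * Θ g := by
    intro s hs
    obtain ⟨l, h2, h3⟩ := exists_lin R hΘ hΘR (GaloisIrr.isIrr_map s hΘ) (fun y => by rw [← heM y, hΘι, hs])
    exact ⟨l, h2, fun x hx => Abelianization.commutator_subset_ker l hx, h3⟩
  -- good elements
  obtain ⟨y, hy⟩ := h0
  obtain ⟨x, hx, rfl⟩ := hlift y
  have h1 := hy.1
  rw [hmul, memLocalIdeal_mul_iff hM (loc_val hM hΘ x) (loc_val hM hη x), not_or] at h1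
  have h2 : centralizer ({x} : Set Δ) = (centralizer ({p x} : Set G)).comap p := by
    ext c
    rw [mem_comap, mem_centralizer_singleton_iff, mem_centralizer_singleton_iff]
    refine ⟨fun h => by rw [← map_mul, ← map_mul, h], fun h => ?_⟩
    have h3 : c * x * c⁻¹ * x⁻¹ ∈ p.ker := by
      rw [MonoidHom.mem_ker, map_mul, map_mul, map_mul, h, map_inv, map_inv]
      group
    obtain ⟨a, h4, -, -⟩ := exists_central hΘ (hpc h3)
    have h5 := h4 x
    rw [inv_mul_cancel_right, isIrr_isClassFunction hΘ x c] at h5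
    have h6 : a = 1 := (mul_eq_right₀ (ne_zero_of_not_memLocalIdeal hM h1.1)).1 h5.symm
    have h7 := hpf _ h3 (by rw [← mul_one (c * x * c⁻¹ * x⁻¹), h4, h6, one_mul])
    rwa [mul_inv_eq_one, mul_inv_eq_iff_eq_mul] at h7
  have h3 := hy.nu hM hχ
  rw [← index_comap_of_surjective _ hp, ← h2, ← relIndex_mul_index (le_sup_left (b := R)), relIndex_sup_normal,
    Nat.factorization_mul (show (centralizer ({x} : Set Δ)).relIndex R ≠ 0 from index_ne_zero_of_finite)
      index_ne_zero_of_finite, Finsupp.add_apply,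
    charDegree_of (n := charDegree Θ * charDegree β) (by
      rw [Nat.cast_mul, ← apply_one (isIrr_isCharacter hΘ), ← apply_one (isIrr_isCharacter hβ), ← map_one p, hmul, ← hβη,
        map_one]),
    Nat.factorization_mul (Basic.charDegree_pos hΘ).ne' (Basic.charDegree_pos hβ).ne', Finsupp.add_apply] at h3
  let L : Subgroup Δ := zpowers x ⊔ R
  have hxL : x ∈ L := mem_sup_left (mem_zpowers x)
  have hΘL : IsIrrCharacter L fun l : L => Θ l := isIrr_of_le le_sup_right (isIrr_isCharacter hΘ) hΘR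
  have h4 : (centralizer ({⟨x, hxL⟩} : Set L)).index = (centralizer ({x} : Set Δ)).relIndex R := by
    have h5 : centralizer ({x} : Set Δ) ⊓ L ⊔ R = L := le_antisymm (sup_le inf_le_right le_sup_right)
      (sup_le_sup_right (zpowers_le.2 (mem_inf.2 ⟨mem_centralizer_singleton_iff.2 rfl, hxL⟩)) _)
    have h6 := relIndex_sup_normal (centralizer ({x} : Set Δ) ⊓ L) R
    rw [h5, inf_relIndex_right, ← inf_relIndex_right _ R, inf_assoc, inf_eq_right.2 (le_sup_right : R ≤ L),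
      inf_relIndex_right] at h6
    rw [index_cent_sub, h6]
  have h5 := nu_deg_le hM hΘL (y := ⟨x, hxL⟩) h1.1
  rw [h4, charDegree_congr (χ := fun l : L => Θ l) (ψ := Θ) rfl] at h5
  have h6 := nu_deg_le hM hβ (y := QuotientGroup.mk' R x) (by rw [hβη]; exact h1.2)
  have h7 : (centralizer ({QuotientGroup.mk' R x} : Set (Δ ⧸ R))).index ∣ (centralizer ({x} : Set Δ) ⊔ R).index := by
    rw [← index_comap_of_surjective _ (QuotientGroup.mk'_surjective R)]
    refine index_dvd_of_le (sup_le (fun c hc => ?_) fun r hr => ?_)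
    · exact mem_centralizer_singleton_iff.2 (Commute.map (mem_centralizer_singleton_iff.1 hc) _)
    · rw [mem_comap, QuotientGroup.mk'_apply, QuotientGroup.mk'_apply, (QuotientGroup.eq_one_iff r).2 hr]
      exact one_mem _
  have h8 := nu_le_of_dvd index_ne_zero_of_finite h7
  have gΘ : Good M (fun l : L => Θ l) ⟨x, hxL⟩ := good_of_le hM hΘL h1.1 (by
    rw [h4, charDegree_congr (χ := fun l : L => Θ l) (ψ := Θ) rfl]
    omega)
  have gβ : Good M β (QuotientGroup.mk' R x) := good_of_le hM hβ (by rw [hβη]; exact h1.2) (by omega)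
  have gβ' := Good.normal hM hβ _ hβ' (y := ⟨_, hcm ▸ mem_map_of_mem _ hx⟩) gβ
  -- the centres
  have c1 : (center L).index < (center G).index := by
    have h9 : (center G).comap p ≤ center Δ := by
      intro z hz
      have h10 : ι ⟨p z, hZ.le hz⟩ ∈ center Δ := by
        rw [mem_center_iff]
        intro w
        obtain ⟨n, hn⟩ := hιn.conj_mem _ ⟨⟨p z, hZ.le hz⟩, rfl⟩ w
        have h11 : n = ⟨p z, hZ.le hz⟩ := by
          apply Subtype.ext
          rw [← hpι n, hn, map_mul, map_mul, hpι, map_inv, mem_center_iff.1 hz (p w), mul_inv_cancel_right]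
        rw [h11, eq_mul_inv_iff_mul_eq] at hn
        exact hn.symm
      have h11 := mul_mem (hpc (show z * (ι ⟨p z, hZ.le hz⟩)⁻¹ ∈ p.ker by
        rw [MonoidHom.mem_ker, map_mul, map_inv, hpι, mul_inv_cancel])) h10
      rwa [inv_mul_cancel_right] at h11
    have h10 : L.map p = zpowers (p x) ⊔ N := by
      rw [Subgroup.map_sup, MonoidHom.map_zpowers, hR, MonoidHom.map_range, show p.comp ι = N.subtype from MonoidHom.ext hpι,
        range_subtype]
    have h11 := center_index_dvd h9 L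
    rw [relIndex_comap, h10] at h11
    have h12 := relIndex_mul_index (hZ.le.trans (le_sup_right : N ≤ zpowers (p x) ⊔ N))
    have h13 := one_lt_index_of_ne_top (sup_ne_top hG hNt (p x))
    have h14 : 0 < (center G).relIndex (zpowers (p x) ⊔ N) := Nat.pos_of_ne_zero index_ne_zero_of_finite
    exact (Nat.le_of_dvd h14 h11).trans_lt (h12 ▸ (Nat.lt_mul_iff_one_lt_right h14).2 h13)
  have c2 : (center (commutator (Δ ⧸ R))).index < (center G).index := by
    have h9 : (N.comap p).map (QuotientGroup.mk' R) ≤ center (Δ ⧸ R) := by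
      rintro _ ⟨a, ha, rfl⟩
      have h10 := hcen (a * (ι ⟨p a, ha⟩)⁻¹) (by rw [MonoidHom.mem_ker, map_mul, map_inv, hpι, mul_inv_cancel])
      rwa [map_mul, map_inv, QuotientGroup.mk'_apply R (ι _), (QuotientGroup.eq_one_iff _).2 (show ι _ ∈ R from ⟨_, rfl⟩),
        inv_one, mul_one] at h10
    have h10 := (center_index_dvd le_rfl (commutator (Δ ⧸ R))).trans
      ((relIndex_dvd_index_of_normal _ _).trans ((index_dvd_of_le h9).trans
        (index_map_dvd _ (QuotientGroup.mk'_surjective R))))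
    rw [index_comap_of_surjective _ hp] at h10
    exact (Nat.le_of_dvd (Nat.pos_of_ne_zero index_ne_zero_of_finite) h10).trans_lt (index_strictAnti hZ)
  obtain ⟨l, l1, l2, l3⟩ := hlin σ hσθ
  have r1 := ih L c1 _ hΘL ⟨_, gΘ⟩ σ hσ fun a => by
    have h9 : L ≤ l.ker := sup_le (zpowers_le.2 (l2 x hx)) l1
    rw [l3, show l a = 1 from h9 a.2, Units.val_one, one_mul]
  have r2 := ih _ c2 _ hβ' ⟨_, gβ'⟩ σ hσ fun a => by
    obtain ⟨w, hw, h9⟩ := (hcm ▸ a.2 : (a : Δ ⧸ R) ∈ (commutator Δ).map (QuotientGroup.mk' R))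
    have h10 : ∀ x, η x = l x * σ (η x) := by
      refine gall_inj R hΘ hΘR hηR (fun n g => ?_) fun g => ?_
      · rw [hηR, map_mul, l1 n n.2, one_mul]
      · rw [← hmul, ← hfix, hmul, map_mul, l3]
        ring
    have h11 := h10 w
    rw [l2 w hw, Units.val_one, one_mul] at h11
    show σ (β a) = β a
    rw [← h9, hβη, ← h11]
  intro τ hτ g
  obtain ⟨w, hw, rfl⟩ := hlift g
  obtain ⟨k, -, k2, k3⟩ := hlin τ fun n => by
    rw [← hΘι]
    exact r1 τ hτ ⟨ι n, mem_sup_right ⟨n, rfl⟩⟩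
  rw [hmul, map_mul, k3, k2 w hw, Units.val_one, one_mul, ← hβη]
  exact congrArg _ (r2 τ hτ ⟨_, hcm ▸ mem_map_of_mem _ hw⟩)

end Cfsg.Agent.HZ
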