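import Cfsg.Agent.HZ.Red.Ind
import Cfsg.Agent.H261.TI.PChar
import Cfsg.Agent.S4432

/-!
# HZ, the reduction: normal subgroups of prime index (helper17)
-/

set_option autoImplicit false

namespace Cfsg.Agent.HZ

open Cfsg Subgroup Cfsg.Agent.ODD.Red Cfsg.Agent.Characters Cfsg.Agent.Characters.Core Cfsg.Agent.Blocks
  Cfsg.Agent.Blocks.LocalRing

universe u

variable {M : Ideal AlgInt} {G : Type u} [Group G] [Finite G] {χ : G → ℂ}

theorem relIndex_sup_normal (C N : Subgroup G) [N.Normal] : C.relIndex (C ⊔ N) = C.relIndex N := by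
  have h1 := relIndex_mul_relIndex (C ⊓ N) N (C ⊔ N) inf_le_right le_sup_right
  have h2 := relIndex_mul_relIndex (C ⊓ N) C (C ⊔ N) inf_le_left le_sup_left
  rw [relIndex_sup_right, inf_relIndex_right] at h1
  rw [inf_relIndex_left, ← h1, mul_comm] at h2
  exact Nat.eq_of_mul_eq_mul_right (Nat.pos_of_ne_zero (show N.relIndex C ≠ 0 from index_ne_zero_of_finite)) h2

omit [Finite G] in
theorem index_cent_sub (L : Subgroup G) (y : L) :
    (centralizer ({y} : Set L)).index = (centralizer ({(y : G)} : Set G)).relIndex L := by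
  rw [relIndex]
  congr 1
  ext c
  rw [mem_subgroupOf, mem_centralizer_singleton_iff, mem_centralizer_singleton_iff, Subtype.ext_iff]
  rfl

/-- a good element in a normal subgroup on which the character is irreducible -/
theorem Good.normal (hM : IsPModular 2 M) (hχ : IsIrrCharacter G χ) (N : Subgroup G) [N.Normal]
    (hχN : IsIrrCharacter N fun n : N => χ n) {y : N} (hy : Good M χ y) : Good M (fun n : N => χ n) y := by
  refine good_of_le hM hχN hy.1 ?_
  rw [charDegree_congr (χ := fun n : N => χ n) (ψ := χ) rfl, ← hy.nu hM hχ, index_cent_sub, ← relIndex_sup_normal]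
  exact nu_le_of_dvd index_ne_zero_of_finite (relIndex_dvd_index_of_le le_sup_left)

omit [Finite G] in
theorem mem_of_odd {N : Subgroup G} [N.Normal] (hi : N.index = 2) {y : G} (ho : ¬ 2 ∣ orderOf y) : y ∈ N := by
  have h1 : (y : G ⧸ N) ^ 2 = 1 := by
    rw [← QuotientGroup.mk_pow, QuotientGroup.eq_one_iff, ← hi]
    exact N.pow_index_mem y
  have h2 : (y : G ⧸ N) ^ orderOf y = 1 := by rw [← QuotientGroup.mk_pow, pow_orderOf_eq_one, QuotientGroup.mk_one]
  have h3 := pow_gcd_eq_one.2 ⟨h1, h2⟩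
  rwa [((Nat.Prime.coprime_iff_not_dvd Nat.prime_two).2 ho).gcd_eq_one, pow_one, QuotientGroup.eq_one_iff] at h3

theorem rat2_index_two (hM : IsPModular 2 M) (N : Subgroup G) [N.Normal] (hi : N.index = 2) (hN : HH M N)
    (hχ : IsIrrCharacter G χ) (hχN : IsIrrCharacter N fun n : N => χ n) (h0 : H0 M χ) {σ : ℂ ≃+* ℂ} (hσ : Sg σ)
    (hfix : Fix σ χ) : Rat2 χ := by
  have : Fact (Nat.Prime 2) := ⟨Nat.prime_two⟩
  obtain ⟨y, ho, hy⟩ := h0.odd hM hχ
  have hyN : y ∈ N := mem_of_odd hi ho.not_two_dvd_nat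
  have h1 := Good.normal hM hχ N hχN (y := ⟨y, hyN⟩) hy
  have h2 := hN _ hχN ⟨_, h1⟩ σ hσ fun n => hfix n
  have key : ∀ τ, Two τ → ∃ l : G →* ℂˣ, (∀ n ∈ N, l n = 1) ∧ ∀ g, τ (χ g) = l g * χ g := fun τ hτ =>
    exists_lin N hχ hχN (GaloisIrr.isIrr_map τ hχ) (h2 τ hτ)
  obtain ⟨c, hc, hcN⟩ : ∃ c ∈ centralizer ({y} : Set G), c ∉ N := by
    by_contra! h
    have h3 := h1.nu hM hχN
    have h4 := hy.nu hM hχ
    rw [charDegree_congr (χ := fun n : N => χ n) (ψ := χ) rfl, index_cent_sub] at h3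
    rw [← relIndex_mul_index (show centralizer ({y} : Set G) ≤ N from h), hi, Nat.factorization_mul
      (show (centralizer ({y} : Set G)).relIndex N ≠ 0 from index_ne_zero_of_finite) two_ne_zero, Finsupp.add_apply, h3,
      Nat.prime_two.factorization_self] at h4
    omega
  obtain ⟨u, hu⟩ := PPart.exists_isPPart 2 c
  obtain ⟨n, hn⟩ := PPart.exists_pow_eq (G := G) 2
  have hu' := hn c u hu
  obtain ⟨t, hut, -, hk, ht⟩ := hu
  have huN : u ∉ N := fun h => hcN (hut ▸ mul_mem h (mem_of_odd hi ht))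
  have hcm : Commute u y := by
    rw [← hu']
    exact Commute.pow_left (mem_centralizer_singleton_iff.1 hc) n
  have h3 := hy.unit hM hχ ho hk hcm
  have h4 := unit_fix hM (mem_Cy_char (isIrr_isCharacter hχ) (u * y)) h3 (fun τ hτ => by
    obtain ⟨l, h5, h6⟩ := key τ hτ
    have h7 : l (u * y) ^ 2 = 1 := by rw [← map_pow, h5 _ (hi ▸ N.pow_index_mem _)]
    have h8 : (l (u * y) : ℂ) ^ 2 = 1 := by rw [← Units.val_pow_eq_pow_val, h7, Units.val_one]
    rw [h6]
    rcases sq_eq_one_iff.1 h8 with h | h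
    · left; rw [h, one_mul]
    · right; rw [h, neg_one_mul]) hσ (hfix _)
  intro τ hτ g
  obtain ⟨l, h5, h6⟩ := key τ hτ
  have h7 : l (u * y) = 1 := by
    apply Units.ext
    have h8 := h4 τ hτ
    rw [h6] at h8
    exact (mul_eq_right₀ (ne_zero_of_not_memLocalIdeal hM h3)).1 h8
  rw [map_mul, h5 y hyN, mul_one] at h7
  have h8 : l g = 1 := by
    by_cases hg : g ∈ N
    · exact h5 g hg
    · have h9 := h5 _ ((mul_mem_iff_of_index_two hi).2 (iff_of_false hg huN))
      rwa [map_mul, h7, mul_one] at h9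
  rw [h6, h8, Units.val_one, one_mul]

theorem rat2_index_odd (hM : IsPModular 2 M) (N : Subgroup G) [N.Normal] {p : ℕ} (hp : p.Prime) (ho : Odd p)
    (hi : N.index = p) (hN : HH M N) (hχ : IsIrrCharacter G χ) (hχN : IsIrrCharacter N fun n : N => χ n) (h0 : H0 M χ)
    {σ : ℂ ≃+* ℂ} (hσ : Sg σ) (hfix : Fix σ χ) : Rat2 χ := by
  have : Fact (Nat.Prime 2) := ⟨Nat.prime_two⟩
  have := isPrime hM
  have := Fintype.ofFinite G
  have := Fintype.ofFinite N
  have h1 : H0 M fun n : N => χ n := by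
    refine h0_of_le hM hχN fun θ hθ hs => ?_
    obtain ⟨χ', h2, h3⟩ := S4432.result 2 M hM N (blockOf M χ) ⟨⟨χ, hχ⟩, rfl⟩ (blockOf M fun n : N => χ n) ⟨⟨_, hχN⟩, rfl⟩
      ⟨⟨χ, hχ⟩, Basic.mem_blockOf_self (⟨χ, hχ⟩ : IrrCharacter G), ⟨_, hχN⟩,
        Basic.mem_blockOf_self (⟨_, hχN⟩ : IrrCharacter N), by
          show classInner (fun n : N => χ n) (fun n : N => χ n) ≠ 0
          rw [classInner_irr_self hχN]
          exact one_ne_zero⟩ ⟨θ, hθ⟩ hs
    rw [charDegree_congr (χ := fun n : N => χ n) (ψ := χ) rfl]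
    refine (h0.le hM hχ χ'.2 h2).trans (le_of_eq ?_)
    rcases H261.TI.prime_cases N hp hi hθ with ⟨-, h4⟩ | ⟨-, -, h4, h5⟩
    · rw [charDegree_congr (h4 _ χ'.2 h3)]
    · rw [h5 _ χ'.2 h3, charDegree_of (n := p * charDegree θ) (by rw [h4, apply_one (isIrr_isCharacter hθ), Nat.cast_mul]),
        Nat.factorization_mul hp.ne_zero (Basic.charDegree_pos hθ).ne', Finsupp.add_apply,
        Nat.factorization_eq_zero_of_not_dvd ho.not_two_dvd_nat, zero_add]
  have h2 := hN _ hχN h1 σ hσ fun n => hfix n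
  intro τ hτ g
  obtain ⟨l, h3, hl⟩ := exists_lin N hχ hχN (GaloisIrr.isIrr_map τ hχ) (h2 τ hτ)
  have h4 : (l g : ℂ) ^ p = 1 := by
    rw [← Units.val_pow_eq_pow_val, ← map_pow, h3 _ (hi ▸ N.pow_index_mem _), Units.val_one]
  have h5 : ∀ k : ℕ, (τ ^ k) (χ g) = (l g : ℂ) ^ k * χ g := by
    intro k
    induction k with
    | zero => simp
    | succ k ih => rw [pow_succ', RingAut.mul_apply, ih, map_mul, map_pow, hτ _ _ ho h4, hl, pow_succ]; ring
  obtain ⟨b, hb⟩ := hτ.exists_pow (n := Nat.card G) Nat.card_pos.ne'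
  by_cases h6 : χ g = 0
  · rw [h6, map_zero]
  · have h7 := h5 (2 ^ b)
    rw [fix_of_roots Nat.card_pos.ne' (fun g => pow_card_eq_one') hb (isIrr_isCharacter hχ) g] at h7
    have h8 := pow_gcd_eq_one.2 ⟨(mul_eq_right₀ h6).1 h7.symm, h4⟩
    rw [(Nat.Coprime.pow_left b (Nat.coprime_two_left.2 ho)).gcd_eq_one, pow_one] at h8
    rw [hl, h8, one_mul]

/-- **The step for a normal subgroup of prime index.** -/
theorem rat2_prime (hM : IsPModular 2 M) (hsub : ∀ S : Subgroup G, S ≠ ⊤ → HH M S) (N : Subgroup G) [N.Normal]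
    (hp : N.index.Prime) : HH M G := by
  intro χ hχ h0 σ hσ hfix
  by_contra hn
  have := Fintype.ofFinite G
  have := Fintype.ofFinite N
  have hN : N ≠ ⊤ := fun h => hp.ne_one (index_eq_one.2 h)
  obtain ⟨θ, hθ, hc, -⟩ := OddOrderCharacters.PF9.CliffGen.exists_constituent (le_refl (N : Subgroup G))
    (θ := fun n : N => χ n) (Clifford.isCharacter_restrict N (isIrr_isCharacter hχ)) fun h =>
      isIrr_apply_one_ne_zero hχ (congrFun (classInner_self_eq_zero h) 1)
  have hinv := homog hM hsub hχ h0 hσ hfix hn N hθ hc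
  obtain ⟨e, he⟩ := exists_restrict N hχ hθ hinv hc
  have h1 : χ 1 = θ 1 := by
    rcases H261.TI.prime_cases N hp rfl hθ with ⟨-, h4⟩ | ⟨h4, -⟩
    · exact h4 χ hχ hc
    · exact absurd (eq_top_iff.2 fun g _ => h4 ▸ H261.TI.mem_stab.2 (hinv g)) hN
  have h2 : (e : ℂ) = 1 := (mul_eq_right₀ (isIrr_apply_one_ne_zero hθ)).1 ((he 1).symm.trans h1)
  have hχN : IsIrrCharacter N fun n : N => χ n := by
    rw [show (fun n : N => χ n) = θ from funext fun n => by rw [he, h2, one_mul]]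
    exact hθ
  rcases hp.eq_two_or_odd' with h | h
  · exact hn (rat2_index_two hM N h (hsub N hN) hχ hχN h0 hσ hfix)
  · exact hn (rat2_index_odd hM N hp h rfl (hsub N hN) hχ hχN h0 hσ hfix)

end Cfsg.Agent.HZ
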